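import Groth.Agent.WEtale.Basic
import Groth.Agent.Hensel.Local
import Mathlib.FieldTheory.IsAlgClosed.AlgebraicClosure
import Mathlib.RingTheory.Localization.Integral
import Mathlib.RingTheory.IntegralClosure.IntegrallyClosed
import Mathlib.RingTheory.Flat.FaithfullyFlat.Algebra
import Mathlib.RingTheory.LocalRing.ResidueField.Ideal

/-!
Olivier's theorem: weakly etale local algebras over strictly henselian local rings are trivial.
-/

universe u

open scoped TensorProduct

namespace Groth.Agent.WEtale.Olivier

/-- A finite domain over a henselian local ring is local. -/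
theorem isLocalRing_of_finite {A S : Type u} [CommRing A] [HenselianLocalRing A] [CommRing S]
    [IsDomain S] [Algebra A S] [Module.Finite A S] : IsLocalRing S := by
  obtain ⟨n, e, he, hloc⟩ := Groth.Agent.Hensel.exists_pi_local (R := A) S
  obtain ⟨i, hi⟩ : ∃ i, e i ≠ 0 := by
    by_contra h
    push Not at h
    exact one_ne_zero (α := S) (by rw [← he.complete]; simp [h])
  have h1 : e i = 1 := (IsIdempotentElem.iff_eq_zero_or_one.1 (he.idem i)).resolve_left hi
  have := hloc i
  exact RingEquiv.isLocalRing (((Ideal.quotEquivOfEq (by rw [h1, sub_self, Ideal.span_singleton_eq_bot]) :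
    (S ⧸ Ideal.span {1 - e i}) ≃+* S ⧸ (⊥ : Ideal S))).trans (RingEquiv.quotientBot S))

/-- An integral domain over a henselian local ring is local. -/
theorem isLocalRing_of_integral {A S : Type u} [CommRing A] [HenselianLocalRing A] [CommRing S]
    [IsDomain S] [Algebra A S] [Algebra.IsIntegral A S] : IsLocalRing S := by
  obtain ⟨M, hM⟩ := Ideal.exists_maximal S
  refine IsLocalRing.of_unique_max_ideal ⟨M, hM, fun M' hM' => by_contra fun hne => ?_⟩
  have hM' : M'.IsMaximal := hM'
  have hnle : ¬ M' ≤ M := fun h => hne (hM'.eq_of_le hM.ne_top h)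
  obtain ⟨x, hx', hx⟩ := SetLike.not_le_iff_exists.1 hnle
  let T := Algebra.adjoin A {x}
  have : Module.Finite A T := ⟨(Submodule.fg_top _).2 (Algebra.IsIntegral.isIntegral x).fg_adjoin_singleton⟩
  have : IsLocalRing T := isLocalRing_of_finite (A := A)
  have : Algebra.IsIntegral T S := Algebra.IsIntegral.tower_top (R := A)
  have h1 : (M'.comap (algebraMap T S)).IsMaximal :=
    Ideal.isMaximal_comap_of_isIntegral_of_isMaximal M'
  have h2 : (M.comap (algebraMap T S)).IsMaximal :=
    Ideal.isMaximal_comap_of_isIntegral_of_isMaximal M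
  have h3 : (⟨x, Algebra.self_mem_adjoin_singleton A x⟩ : T) ∈ M'.comap (algebraMap T S) := hx'
  rw [IsLocalRing.eq_maximalIdeal h1, ← IsLocalRing.eq_maximalIdeal h2] at h3
  exact hx h3

theorem eq_zero_or_one {S : Type u} [CommRing S] [IsLocalRing S] {e : S} (he : IsIdempotentElem e) :
    e = 0 ∨ e = 1 := by
  rcases IsLocalRing.isUnit_or_isUnit_one_sub_self e with h | h
  · exact Or.inr ((IsIdempotentElem.iff_eq_one_of_isUnit h).1 he)
  · exact Or.inl (by simpa using (IsIdempotentElem.iff_eq_one_of_isUnit h).1 he.one_sub)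

theorem exists_algebraMap_sub_mem (A B : Type u) [CommRing A] [HenselianLocalRing A] [CommRing B]
    [IsLocalRing B] [IsSepClosed (IsLocalRing.ResidueField A)] [Algebra A B]
    [IsLocalHom (algebraMap A B)] [Algebra.WeaklyEtale A B] (b : B) :
    ∃ a : A, b - algebraMap A B a ∈ (IsLocalRing.maximalIdeal A).map (algebraMap A B) := by
  let k := IsLocalRing.ResidueField A
  let L := k ⊗[A] B
  have hres : Function.Surjective (algebraMap A k) := IsLocalRing.residue_surjective
  have hsurj : Function.Surjective (Algebra.TensorProduct.includeRight : B →ₐ[A] L) := by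
    intro z
    induction z using TensorProduct.induction_on with
    | zero => exact ⟨0, map_zero _⟩
    | tmul c y =>
      obtain ⟨a, rfl⟩ := hres c
      refine ⟨a • y, ?_⟩
      rw [Algebra.TensorProduct.includeRight_apply, ← TensorProduct.smul_tmul, Algebra.smul_def, mul_one]
    | add x y hx hy =>
      obtain ⟨a, rfl⟩ := hx
      obtain ⟨c, rfl⟩ := hy
      exact ⟨a + c, map_add _ _ _⟩
  let β : L →ₐ[A] IsLocalRing.ResidueField B :=
    Algebra.TensorProduct.lift
      ({ IsLocalRing.ResidueField.map (algebraMap A B) with commutes' := fun a => rfl } :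
        k →ₐ[A] IsLocalRing.ResidueField B)
      (IsScalarTower.toAlgHom A B (IsLocalRing.ResidueField B)) fun _ _ => Commute.all _ _
  have : Nontrivial L := RingHom.domain_nontrivial β.toRingHom
  have : IsLocalRing L :=
    IsLocalRing.of_surjective' (Algebra.TensorProduct.includeRight : B →ₐ[A] L).toRingHom hsurj
  have hL : IsField L := (absFlat k L).isField fun e he =>
    eq_zero_or_one he
  let := hL.toField
  obtain ⟨c, hc⟩ := (bijective_quotient_maximal k L (IsLocalRing.maximalIdeal L)).2
    (Ideal.Quotient.mk _ (1 ⊗ₜ b))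
  obtain ⟨a, rfl⟩ := hres c
  refine ⟨a, ?_⟩
  have h0 : ((1 : k) ⊗ₜ[A] (b - algebraMap A B a) : L) = 0 := by
    rw [← Ideal.Quotient.mk_algebraMap, Ideal.Quotient.eq,
      IsLocalRing.maximalIdeal_eq_bot (R := L), Ideal.mem_bot, sub_eq_zero] at hc
    rw [TensorProduct.tmul_sub, ← hc, sub_eq_zero, Algebra.TensorProduct.algebraMap_apply,
      Algebra.algebraMap_eq_smul_one (A := B), TensorProduct.tmul_smul, TensorProduct.smul_tmul',
      Algebra.smul_def, mul_one]
    rfl
  have : Function.Exact (Submodule.subtype (IsLocalRing.maximalIdeal A))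
      (Algebra.linearMap A k) := by
    intro x
    refine ⟨fun hx => ⟨⟨x, Ideal.Quotient.eq_zero_iff_mem.1 hx⟩, rfl⟩, ?_⟩
    rintro ⟨y, rfl⟩
    exact Ideal.Quotient.eq_zero_iff_mem.2 y.2
  obtain ⟨w, hw⟩ := (Module.Flat.rTensor_exact B this ((1 : A) ⊗ₜ (b - algebraMap A B a))).1
    (by rw [LinearMap.rTensor_tmul, Algebra.linearMap_apply, map_one]; exact h0)
  have h2 : ∀ w, TensorProduct.lid A B ((Submodule.subtype (IsLocalRing.maximalIdeal A)).rTensor B w) ∈
      (IsLocalRing.maximalIdeal A).map (algebraMap A B) := by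
    intro w
    induction w using TensorProduct.induction_on with
    | zero => simp
    | tmul x y =>
      rw [LinearMap.rTensor_tmul, TensorProduct.lid_tmul, Algebra.smul_def]
      exact Ideal.mul_mem_right _ _ (Ideal.mem_map_of_mem _ x.2)
    | add x y hx hy => rw [map_add, map_add]; exact add_mem hx hy
  have := h2 w
  rwa [hw, TensorProduct.lid_tmul, one_smul] at this

theorem bijective_fibre (A B : Type u) [CommRing A] [HenselianLocalRing A] [CommRing B]
    [IsLocalRing B] [IsSepClosed (IsLocalRing.ResidueField A)] [Algebra A B]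
    [IsLocalHom (algebraMap A B)] [Algebra.WeaklyEtale A B] (p : Ideal A) [p.IsPrime] :
    Function.Bijective (algebraMap p.ResidueField (p.ResidueField ⊗[A] B)) := by
  let K := p.ResidueField
  let K' := AlgebraicClosure K
  let A' := integralClosure (A ⧸ p) K'
  have : Algebra.IsAlgebraic (A ⧸ p) K := IsLocalization.isAlgebraic K (nonZeroDivisors (A ⧸ p))
  have hinjp : Function.Injective (algebraMap (A ⧸ p) K') := by
    rw [IsScalarTower.algebraMap_eq (A ⧸ p) K K']
    exact (algebraMap K K').injective.comp (IsFractionRing.injective (A ⧸ p) K)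
  have : Algebra.IsAlgebraic (A ⧸ p) K' := Algebra.IsAlgebraic.trans (A ⧸ p) K K'
  have : IsFractionRing A' K' :=
    integralClosure.isFractionRing_of_algebraic fun x hx => hinjp (hx.trans (map_zero _).symm)
  have : IsIntegrallyClosed A' := by
    refine (isIntegrallyClosed_iff K').2 fun {x} hx => ?_
    have : IsIntegral (A ⧸ p) x := isIntegral_trans (A := A') x hx
    exact ⟨⟨x, this⟩, rfl⟩
  have : Algebra.IsIntegral A A' := Algebra.IsIntegral.trans (A ⧸ p)
  have : IsLocalRing A' := isLocalRing_of_integral (A := A)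
  have : IsLocalRing (A' ⊗[A] B) := by
    have hmA : (IsLocalRing.maximalIdeal A).map (algebraMap A A') ≠ ⊤ := by
      intro htop
      have : Ideal.IsMaximal ((IsLocalRing.maximalIdeal A).map (Ideal.Quotient.mk p)) :=
        Ideal.IsMaximal.map_of_surjective_of_ker_le Ideal.Quotient.mk_surjective
          (by rw [Ideal.mk_ker]; exact IsLocalRing.le_maximalIdeal (Ideal.IsPrime.ne_top ‹_›))
      obtain ⟨q, hq, hqA⟩ := Ideal.exists_ideal_over_prime_of_isIntegral_of_isDomain
        (R := A ⧸ p) (S := A') ((IsLocalRing.maximalIdeal A).map (Ideal.Quotient.mk p)) (by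
          rw [(RingHom.ker_eq_bot_iff_eq_zero _).2 fun x hx => hinjp ?_]
          · exact bot_le
          · rw [map_zero, IsScalarTower.algebraMap_apply (A ⧸ p) A' K', hx, map_zero])
      have h1 : (IsLocalRing.maximalIdeal A).map (algebraMap A A') ≤ q := by
        rw [Ideal.map_le_iff_le_comap]
        intro x hx
        rw [Ideal.mem_comap, IsScalarTower.algebraMap_apply A (A ⧸ p) A']
        have : Ideal.Quotient.mk p x ∈ q.comap (algebraMap (A ⧸ p) A') :=
          hqA.symm ▸ Ideal.mem_map_of_mem _ hx
        exact this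
      exact hq.ne_top (top_le_iff.1 (htop ▸ h1))
    let J := (IsLocalRing.maximalIdeal A').map (algebraMap A' (A' ⊗[A] B))
    have hsum : ∀ z : A' ⊗[A] B, ∃ a' : A', z - algebraMap A' (A' ⊗[A] B) a' ∈ J := by
      intro z
      induction z using TensorProduct.induction_on with
      | zero => exact ⟨0, by simp⟩
      | tmul c b =>
        obtain ⟨a, ha⟩ := exists_algebraMap_sub_mem A B b
        refine ⟨a • c, ?_⟩
        have h1 : c ⊗ₜ[A] b - algebraMap A' (A' ⊗[A] B) (a • c) = c ⊗ₜ (b - algebraMap A B a) := by
          rw [Algebra.TensorProduct.algebraMap_apply, TensorProduct.tmul_sub,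
            Algebra.algebraMap_eq_smul_one (A := B), TensorProduct.tmul_smul, TensorProduct.smul_tmul']
          rfl
        rw [h1]
        have : (IsLocalRing.maximalIdeal A).map (algebraMap A B) ≤
            J.comap (Algebra.TensorProduct.includeRight : B →ₐ[A] A' ⊗[A] B) := by
          rw [Ideal.map_le_iff_le_comap]
          intro x hx
          show (1 : A') ⊗ₜ[A] algebraMap A B x ∈ J
          rw [Algebra.algebraMap_eq_smul_one, ← TensorProduct.smul_tmul, Algebra.smul_def, mul_one]
          exact Ideal.mem_map_of_mem _ (IsLocalRing.le_maximalIdeal hmA (Ideal.mem_map_of_mem _ hx))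
        have h2 := Ideal.mul_mem_left J (c ⊗ₜ[A] (1 : B)) (this ha)
        rwa [Algebra.TensorProduct.includeRight_apply, Algebra.TensorProduct.tmul_mul_tmul, mul_one,
          one_mul] at h2
      | add x y hx hy =>
        obtain ⟨a, ha⟩ := hx
        obtain ⟨c, hc⟩ := hy
        exact ⟨a + c, by rw [map_add, add_sub_add_comm]; exact add_mem ha hc⟩
    have hJ : J ≠ ⊤ := by
      -- a point of the special fibre
      obtain ⟨a₀, _⟩ := exists_algebraMap_sub_mem A B 0
      have : Module.FaithfullyFlat A B := Module.FaithfullyFlat.of_flat_of_isLocalHom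
      exact fun h => (IsLocalRing.maximalIdeal.isMaximal A').ne_top (by
        have h3 := congrArg (Ideal.comap (algebraMap A' (A' ⊗[A] B))) h
        rwa [Ideal.comap_top, Ideal.comap_map_eq_self_of_faithfullyFlat] at h3)
    have : Nontrivial (A' ⊗[A] B) := ⟨⟨0, 1, fun h => hJ (Ideal.eq_top_of_isUnit_mem _ (zero_mem J)
      (by rw [h]; exact isUnit_one))⟩⟩
    refine IsLocalRing.of_nonunits_add fun x y hx hy => ?_
    have key : ∀ z, z ∈ nonunits (A' ⊗[A] B) ↔ z ∈ J := by
      intro z
      refine ⟨fun hz => ?_, fun hz hu => hJ (Ideal.eq_top_of_isUnit_mem _ hz hu)⟩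
      obtain ⟨M, hM, hzM⟩ := exists_max_ideal_of_mem_nonunits hz
      have hMJ : J ≤ M := by
        rw [Ideal.map_le_iff_le_comap]
        -- `A' ⊗ B` is integral over `B`
        have hi : (M.comap (algebraMap A' (A' ⊗[A] B))).IsMaximal := by
          let : Algebra B (A' ⊗[A] B) := Algebra.TensorProduct.rightAlgebra
          have : Algebra.IsIntegral B (A' ⊗[A] B) := by
            refine ⟨fun w => ?_⟩
            induction w using TensorProduct.induction_on with
            | zero => exact isIntegral_zero
            | tmul c b =>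
              have : c ⊗ₜ[A] b = (c ⊗ₜ[A] (1 : B)) * algebraMap B (A' ⊗[A] B) b := by
                rw [Algebra.TensorProduct.right_algebraMap_apply, Algebra.TensorProduct.tmul_mul_tmul,
                  mul_one, one_mul]
              rw [this]
              refine IsIntegral.mul ?_ isIntegral_algebraMap
              have hc := (Algebra.IsIntegral.isIntegral (R := A) c).map
                (Algebra.TensorProduct.includeLeft : A' →ₐ[A] A' ⊗[A] B)
              exact hc.tower_top
            | add x y hx hy => exact hx.add hy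
          have hMB : (M.comap (algebraMap B (A' ⊗[A] B))).IsMaximal :=
            Ideal.isMaximal_comap_of_isIntegral_of_isMaximal M
          have hMA : (M.comap (algebraMap A (A' ⊗[A] B))) = IsLocalRing.maximalIdeal A := by
            rw [IsScalarTower.algebraMap_eq A B (A' ⊗[A] B), ← Ideal.comap_comap,
              IsLocalRing.eq_maximalIdeal hMB]
            exact IsLocalRing.maximalIdeal_comap (algebraMap A B)
          have hMA' : ((M.comap (algebraMap A' (A' ⊗[A] B))).comap (algebraMap A A')).IsMaximal := by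
            rw [Ideal.comap_comap, ← IsScalarTower.algebraMap_eq A A' (A' ⊗[A] B), hMA]
            exact IsLocalRing.maximalIdeal.isMaximal A
          exact Ideal.isMaximal_of_isIntegral_of_isMaximal_comap _ hMA'
        rw [IsLocalRing.eq_maximalIdeal hi]
      obtain ⟨a', ha'⟩ := hsum z
      have ha'M : algebraMap A' (A' ⊗[A] B) a' ∈ M :=
        (Submodule.sub_mem_iff_right _ hzM).1 (hMJ ha')
      have : a' ∈ IsLocalRing.maximalIdeal A' := by
        rw [IsLocalRing.mem_maximalIdeal]
        exact fun hu => hM.ne_top (Ideal.eq_top_of_isUnit_mem _ ha'M (hu.map _))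
      exact (Submodule.sub_mem_iff_left _ (Ideal.mem_map_of_mem _ this)).1 ha'
    rw [key] at hx hy ⊢
    exact add_mem hx hy
  let C := K' ⊗[A] B
  let e := Algebra.TensorProduct.cancelBaseChange A A' A' K' B
  have : Module.FaithfullyFlat A B := Module.FaithfullyFlat.of_flat_of_isLocalHom
  have hC : IsField C := (absFlat K' C).isField fun z hz => by
    obtain ⟨b', hb'⟩ := exists_eq_of_isIdempotentElem A' K' (A' ⊗[A] B) (e.symm z) (hz.map e.symm)
    have inj : Function.Injective
        (Algebra.TensorProduct.includeRight : A' ⊗[A] B →ₐ[A'] K' ⊗[A'] (A' ⊗[A] B)) :=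
      Algebra.TensorProduct.includeRight_injective Subtype.val_injective
    have hb : IsIdempotentElem b' := inj (by
      rw [map_mul]
      exact (show IsIdempotentElem ((Algebra.TensorProduct.includeRight :
        A' ⊗[A] B →ₐ[A'] K' ⊗[A'] (A' ⊗[A] B)) b') from by
          rw [Algebra.TensorProduct.includeRight_apply, ← hb']; exact hz.map e.symm).eq)
    rcases eq_zero_or_one hb with rfl | rfl
    · exact Or.inl (e.symm.injective (by rw [hb', map_zero, TensorProduct.tmul_zero]))
    · exact Or.inr (e.symm.injective (by rw [hb', map_one]; rfl))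
  let := hC.toField
  have hb : Function.Bijective (algebraMap K' C) := by
    refine ⟨(algebraMap K' C).injective, fun z => ?_⟩
    obtain ⟨c, hc⟩ := (bijective_quotient_maximal K' C (IsLocalRing.maximalIdeal C)).2
      (Ideal.Quotient.mk _ z)
    rw [← Ideal.Quotient.mk_algebraMap, Ideal.Quotient.eq, IsLocalRing.maximalIdeal_eq_bot (R := C),
      Ideal.mem_bot, sub_eq_zero] at hc
    exact ⟨c, hc⟩
  refine Module.Free.bijective_algebraMap_of_finrank_eq_one ?_
  rw [← Module.finrank_baseChange (R := K') (S := K),
    LinearEquiv.finrank_eq (Algebra.TensorProduct.cancelBaseChange A K K' K' B).toLinearEquiv,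
    ← LinearEquiv.finrank_eq (AlgEquiv.ofBijective (Algebra.ofId K' C) hb).toLinearEquiv,
    Module.finrank_self]

theorem algHom_ext_field (A B : Type u) [CommRing A] [HenselianLocalRing A] [CommRing B]
    [IsLocalRing B] [IsSepClosed (IsLocalRing.ResidueField A)] [Algebra A B]
    [IsLocalHom (algebraMap A B)] [Algebra.WeaklyEtale A B] {L : Type u} [Field L] [Algebra A L]
    (φ ψ : B →ₐ[A] L) : φ = ψ := by
  let p := RingHom.ker (algebraMap A L)
  have : p.IsPrime := RingHom.ker_isPrime _
  let ι : p.ResidueField →ₐ[A] L := Ideal.ResidueField.liftₐ p (Algebra.ofId A L) le_rfl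
    (fun x hx => isUnit_iff_ne_zero.2 hx)
  let Φ (χ : B →ₐ[A] L) : p.ResidueField ⊗[A] B →ₐ[A] L :=
    Algebra.TensorProduct.lift ι χ fun _ _ => Commute.all _ _
  ext b
  obtain ⟨c, hc⟩ := (bijective_fibre A B p).2 ((1 : p.ResidueField) ⊗ₜ b)
  have h : ∀ χ : B →ₐ[A] L, χ b = ι c := fun χ => by
    have := congrArg (Φ χ) hc
    simpa [Φ] using this.symm
  rw [h φ, h ψ]

theorem bijective (A B : Type u) [CommRing A] [HenselianLocalRing A] [CommRing B] [IsLocalRing B]
    [IsSepClosed (IsLocalRing.ResidueField A)] [Algebra A B] [IsLocalHom (algebraMap A B)]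
    [Algebra.WeaklyEtale A B] : Function.Bijective (algebraMap A B) := by
  have : Module.FaithfullyFlat A B := Module.FaithfullyFlat.of_flat_of_isLocalHom
  refine ⟨FaithfulSMul.algebraMap_injective A B, ?_⟩
  let μ := Algebra.TensorProduct.lmul' A (S := B)
  let N := RingHom.ker μ.toRingHom
  have hN : ∀ n ∈ N, IsNilpotent n := by
    intro n hn
    rw [nilpotent_iff_mem_prime]
    intro P hP
    have h := algHom_ext_field A B
      ((IsScalarTower.toAlgHom A (B ⊗[A] B) P.ResidueField).comp Algebra.TensorProduct.includeLeft)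
      ((IsScalarTower.toAlgHom A (B ⊗[A] B) P.ResidueField).comp Algebra.TensorProduct.includeRight)
    have hz : ∀ z : B ⊗[A] B, algebraMap (B ⊗[A] B) P.ResidueField z =
        algebraMap (B ⊗[A] B) P.ResidueField ((μ z) ⊗ₜ 1) := by
      intro z
      induction z using TensorProduct.induction_on with
      | zero => simp
      | tmul x y =>
        have h1 : algebraMap (B ⊗[A] B) P.ResidueField (y ⊗ₜ 1) =
          algebraMap (B ⊗[A] B) P.ResidueField (1 ⊗ₜ y) := congr($h y)
        rw [Algebra.TensorProduct.lmul'_apply_tmul,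
          show (x * y) ⊗ₜ[A] (1 : B) = (x ⊗ₜ 1) * (y ⊗ₜ 1) by simp, map_mul, h1, ← map_mul]
        simp
      | add x y hx hy => rw [map_add, hx, hy, ← map_add, map_add μ, TensorProduct.add_tmul]
    have h2 := hz n
    rw [show μ n = 0 from hn, TensorProduct.zero_tmul, map_zero,
      Ideal.algebraMap_residueField_eq_zero] at h2
    exact h2
  let := μ.toRingHom.toAlgebra
  have : Module.Flat (B ⊗[A] B) B := Algebra.WeaklyEtale.flat_lmul' A B
  have hμs : Function.Surjective (Algebra.ofId (B ⊗[A] B) B) := fun b => ⟨b ⊗ₜ 1, mul_one b⟩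
  have : Module.Flat (B ⊗[A] B) ((B ⊗[A] B) ⧸ RingHom.ker (Algebra.ofId (B ⊗[A] B) B)) :=
    Module.Flat.of_linearEquiv (Ideal.quotientKerAlgEquivOfSurjective hμs).toLinearEquiv
  have hμi : ∀ z, μ z = 0 → z = 0 := by
    intro z hz
    obtain ⟨n, hn, hzn⟩ := exists_mem_mul_eq (N := RingHom.ker (Algebra.ofId (B ⊗[A] B) B)) (x := z) hz
    obtain ⟨k, hk⟩ := hN n hn
    have : ∀ i, z = z * n ^ i := fun i => by
      induction i with
      | zero => simp
      | succ i ih => rw [pow_succ, ← mul_assoc, ← ih, hzn]
    rw [this k, hk, mul_zero]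
  refine (Module.FaithfullyFlat.lTensor_surjective_iff_surjective A B (Algebra.linearMap A B)).1 ?_
  intro z
  refine ⟨μ z ⊗ₜ 1, ?_⟩
  rw [LinearMap.lTensor_tmul, Algebra.linearMap_apply, map_one]
  exact sub_eq_zero.1 (hμi _ (by simp [μ]))

end Groth.Agent.WEtale.Olivier
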