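import Groth.Agent.WEtale.Olivier
import Groth.Agent.ProEtW.IndZariski
import Groth.Agent.IndAlg.Etale
import Groth.Agent.S14620
import Mathlib.RingTheory.RingHom.Etale
import Mathlib.RingTheory.Localization.BaseChange

/-!
Weakly etale algebras: localizations, cancellation, local rings over strictly henselian points.
-/

universe u

open scoped TensorProduct

namespace Groth.Agent.WEtale.Local

variable {A B : Type u} [CommRing A] [CommRing B] [Algebra A B]

/-- Localizations are weakly etale. -/
theorem of_isLocalization (S : Submonoid A) [IsLocalization S B] : Algebra.WeaklyEtale A B where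
  flat := IsLocalization.flat B S
  flat_lmul' := RingHom.Flat.of_bijective (IsLocalization.bijective_linearMap_mul' S (A := B))

/-- Cancellation. -/
theorem of_tower (A B C : Type u) [CommRing A] [CommRing B] [CommRing C] [Algebra A B] [Algebra B C]
    [Algebra A C] [IsScalarTower A B C] [Algebra.WeaklyEtale A B] [Algebra.WeaklyEtale A C] :
    Algebra.WeaklyEtale B C := by
  let T := B ⊗[A] C
  let φ : T →ₐ[B] C := Algebra.TensorProduct.lift (Algebra.ofId B C) (AlgHom.id A C)
    fun _ _ => Commute.all _ _
  let : Algebra T C := φ.toRingHom.toAlgebra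
  have : IsScalarTower B T C := .of_algebraMap_eq fun b => (φ.commutes b).symm
  have hφs : Function.Surjective (algebraMap T C) := fun c => ⟨1 ⊗ₜ c, by
    show φ (1 ⊗ₜ c) = c
    exact (Algebra.TensorProduct.lift_tmul _ _ _ _ _).trans (by rw [map_one, one_mul]; rfl)⟩
  have : Algebra.WeaklyEtale B T := inferInstance
  have : Module.Flat T C := by
    let : Algebra C T := Algebra.TensorProduct.rightAlgebra
    have : IsScalarTower C T C := .of_algebraMap_eq fun c => by
      show c = φ (1 ⊗ₜ c)
      exact ((Algebra.TensorProduct.lift_tmul _ _ _ _ _).trans (by rw [map_one, one_mul]; rfl)).symm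
    have : Algebra.WeaklyEtale C T := by
      have h := (inferInstance : Algebra.WeaklyEtale C (C ⊗[A] B))
      let e : C ⊗[A] B ≃ₐ[C] T :=
        { (Algebra.TensorProduct.comm A C B).toRingEquiv with
          commutes' := fun c => by
            show Algebra.TensorProduct.comm A C B (c ⊗ₜ 1) = 1 ⊗ₜ c
            simp }
      refine ⟨Module.Flat.of_linearEquiv e.toLinearEquiv.symm, ?_⟩
      have : Algebra.TensorProduct.lmul' C (S := T) =
          (e.toAlgHom.comp (Algebra.TensorProduct.lmul' C (S := C ⊗[A] B))).comp
            (Algebra.TensorProduct.congr e e).symm.toAlgHom :=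
        AlgHom.ext fun z => by
          induction z using TensorProduct.induction_on with
          | zero => simp
          | tmul a b => simp
          | add x y hx hy => rw [map_add, map_add, hx, hy]
      rw [this]
      exact (RingHom.Flat.of_bijective (Algebra.TensorProduct.congr e e).symm.bijective).comp
        ((Algebra.WeaklyEtale.flat_lmul' C (C ⊗[A] B)).comp (RingHom.Flat.of_bijective e.bijective))
    exact Groth.Agent.FlatMor.LmulFlat.flat_of_flat_lmul C T (Algebra.WeaklyEtale.flat_lmul' C T) C
  have : Algebra.WeaklyEtale T C := by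
    refine ⟨inferInstance, RingHom.Flat.of_bijective ⟨?_, fun c => ⟨c ⊗ₜ 1, mul_one c⟩⟩⟩
    have key : ∀ z : C ⊗[T] C, ∃ c : C, z = c ⊗ₜ 1 := by
      intro z
      induction z using TensorProduct.induction_on with
      | zero => exact ⟨0, (TensorProduct.zero_tmul _ _).symm⟩
      | tmul x y =>
        obtain ⟨t, rfl⟩ := hφs y
        exact ⟨t • x, by rw [TensorProduct.smul_tmul, Algebra.smul_def, mul_one]⟩
      | add x y hx hy =>
        obtain ⟨a, rfl⟩ := hx
        obtain ⟨b, rfl⟩ := hy
        exact ⟨a + b, (TensorProduct.add_tmul _ _ _).symm⟩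
    intro z w hzw
    obtain ⟨a, rfl⟩ := key z
    obtain ⟨b, rfl⟩ := key w
    simp only [RingHom.coe_coe, AlgHom.toRingHom_eq_coe, Algebra.TensorProduct.lmul'_apply_tmul,
      mul_one] at hzw
    rw [hzw]
  exact Algebra.WeaklyEtale.trans B T C

/-- The map of local rings of a weakly etale algebra is weakly etale. -/
theorem weaklyEtale_localRingHom [Algebra.WeaklyEtale A B] (I : Ideal A) [I.IsPrime] (q : Ideal B)
    [q.IsPrime] (hI : I = q.comap (algebraMap A B)) :
    letI := (Localization.localRingHom I q (algebraMap A B) hI).toAlgebra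
    Algebra.WeaklyEtale (Localization.AtPrime I) (Localization.AtPrime q) := by
  let := (Localization.localRingHom I q (algebraMap A B) hI).toAlgebra
  have : IsScalarTower A (Localization.AtPrime I) (Localization.AtPrime q) :=
    .of_algebraMap_eq fun a => by
      show _ = Localization.localRingHom I q (algebraMap A B) hI (algebraMap A _ a)
      rw [Localization.localRingHom_to_map, IsScalarTower.algebraMap_apply A B]
  have : Algebra.WeaklyEtale B (Localization.AtPrime q) := of_isLocalization q.primeCompl
  have : Algebra.WeaklyEtale A (Localization.AtPrime q) := Algebra.WeaklyEtale.trans A B _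
  have : Algebra.WeaklyEtale A (Localization.AtPrime I) := of_isLocalization I.primeCompl
  exact of_tower A (Localization.AtPrime I) (Localization.AtPrime q)

/-- At strictly henselian points weakly etale algebras identify local rings. -/
theorem bijective_localRingHom [Algebra.WeaklyEtale A B] (I : Ideal A) [I.IsPrime] (q : Ideal B)
    [q.IsPrime] (hI : I = q.comap (algebraMap A B))
    (hA : EtCoh.IsStrictlyHenselianLocalRing (Localization.AtPrime I)) :
    Function.Bijective (Localization.localRingHom I q (algebraMap A B) hI) := by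
  obtain ⟨hh, hsep⟩ := hA
  let := (Localization.localRingHom I q (algebraMap A B) hI).toAlgebra
  have := weaklyEtale_localRingHom I q hI
  have : IsLocalHom (algebraMap (Localization.AtPrime I) (Localization.AtPrime q)) :=
    Localization.isLocalHom_localRingHom I q (algebraMap A B) hI
  exact @Olivier.bijective (Localization.AtPrime I) (Localization.AtPrime q) _ hh _ _ hsep _ _ _

/-- Bijective local ring maps propagate to generizations. -/
theorem identifiesLocalRings_of_below (h : ∀ q : PrimeSpectrum B, ∃ m : PrimeSpectrum B, q ≤ m ∧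
    Function.Bijective
      (Localization.localRingHom (m.asIdeal.comap (algebraMap A B)) m.asIdeal (algebraMap A B) rfl)) :
    EtPBC.IdentifiesLocalRings A B := by
  refine Groth.Agent.ProEtW.IndZariski.identifies_of_rep (fun q b => ?_) fun q a t ht h0 => ?_
  · obtain ⟨m, hqm, hm⟩ := h q
    obtain ⟨y, hy⟩ := hm.2 (algebraMap B (Localization.AtPrime m.asIdeal) b)
    obtain ⟨a, s, rfl⟩ := IsLocalization.exists_mk'_eq (m.asIdeal.comap (algebraMap A B)).primeCompl y
    rw [Localization.localRingHom_mk', IsLocalization.mk'_eq_iff_eq_mul, ← map_mul] at hy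
    obtain ⟨t, ht⟩ := (IsLocalization.eq_iff_exists m.asIdeal.primeCompl _).1 hy
    refine ⟨a, s, t, fun hh => s.2 (hqm hh), fun hh => t.2 (hqm hh), ?_⟩
    rw [mul_sub, ht]
    ring
  · obtain ⟨m, hqm, hm⟩ := h q
    obtain ⟨y, hy⟩ := hm.2 (algebraMap B (Localization.AtPrime m.asIdeal) t)
    obtain ⟨c, s, rfl⟩ := IsLocalization.exists_mk'_eq (m.asIdeal.comap (algebraMap A B)).primeCompl y
    rw [Localization.localRingHom_mk', IsLocalization.mk'_eq_iff_eq_mul, ← map_mul] at hy
    obtain ⟨t', ht'⟩ := (IsLocalization.eq_iff_exists m.asIdeal.primeCompl _).1 hy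
    have hc : algebraMap A B c ∉ q.asIdeal := fun hh => by
      have h2 : (t' : B) * (t * algebraMap A B s) ∈ q.asIdeal := ht' ▸ Ideal.mul_mem_left _ _ hh
      rcases q.2.mem_or_mem h2 with h3 | h3
      · exact t'.2 (hqm h3)
      · exact (q.2.mem_or_mem h3).elim ht fun h4 => s.2 (hqm h4)
    have hca : algebraMap A (Localization.AtPrime (m.asIdeal.comap (algebraMap A B))) (c * a) = 0 := by
      refine hm.1 ?_
      rw [Localization.localRingHom_to_map, map_zero]
      refine (IsLocalization.map_eq_zero_iff m.asIdeal.primeCompl _ _).2 ⟨t', ?_⟩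
      rw [map_mul]
      linear_combination (algebraMap A B a) * ht' + (t' : B) * algebraMap A B s * h0
    obtain ⟨u, hu⟩ := (IsLocalization.map_eq_zero_iff
      (m.asIdeal.comap (algebraMap A B)).primeCompl _ _).1 hca
    refine ⟨u * c, ?_, by rw [mul_assoc]; exact hu⟩
    rw [map_mul]
    exact q.2.mul_notMem (fun hh => u.2 (hqm hh)) hc

theorem etale_of_isLocalIso [Algebra.IsLocalIso A B] : Algebra.Etale A B := by
  rw [← RingHom.etale_algebraMap]
  refine RingHom.Etale.ofLocalizationSpanTarget _ _
    (Algebra.IsLocalIso.span_isStandardOpenImmersion_eq_top A B) fun ⟨r, hr⟩ => ?_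
  have : Algebra.IsStandardOpenImmersion A (Localization.Away r) := hr
  obtain ⟨a, ha⟩ := Algebra.IsStandardOpenImmersion.exists_away A (Localization.Away r)
  show RingHom.Etale ((algebraMap B (Localization.Away r)).comp (algebraMap A B))
  rw [← IsScalarTower.algebraMap_eq, RingHom.etale_algebraMap]
  exact Algebra.Etale.of_isLocalizationAway a

theorem fac_of_isIndZariski (h : EtPBC.IsIndZariski A B) :
    Groth.Agent.IndAlg.Fac (Groth.Agent.IndAlg.Etale.Et A) B :=
  Groth.Agent.IndAlg.fac_mono
    (fun E _ _ (hE : Groth.Agent.ProEtW.IndZariski.LI A E) =>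
      Groth.Agent.IndAlg.fac_self (@etale_of_isLocalIso A E _ _ _ hE))
    (Groth.Agent.ProEtW.IndZariski.fac h)

theorem strictlyHenselian_of_ringEquiv {R S : Type u} [CommRing R] [CommRing S] (e : R ≃+* S)
    (hR : EtCoh.IsStrictlyHenselianLocalRing R) : EtCoh.IsStrictlyHenselianLocalRing S := by
  obtain ⟨hh, hsep⟩ := id hR
  have : IsLocalRing S := e.isLocalRing
  have : IsLocalHom e.toRingHom := ⟨fun a ha => by simpa using ha.map e.symm⟩
  exact Groth.Agent.S14620.result e.toRingHom (RingHom.Finite.of_surjective _ e.surjective) hR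

end Groth.Agent.WEtale.Local
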