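import Groth.Agent.FlatMor.LmulFlat
import Mathlib.RingTheory.Flat.EquationalCriterion
import Mathlib.RingTheory.Flat.TorsionFree
import Mathlib.RingTheory.PolynomialAlgebra
import Mathlib.RingTheory.Valuation.LocalSubring
import Mathlib.FieldTheory.PurelyInseparable.Basic

/-!
Elementary facts on weakly etale algebras.
-/

universe u v

open scoped TensorProduct

namespace Groth.Agent.WEtale

theorem exists_of_smul_eq_zero {R : Type u} {M : Type v} [CommRing R] [AddCommGroup M] [Module R M]
    [Module.Flat R M] {r : R} {m : M} (h : r • m = 0) :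
    ∃ (k : ℕ) (a : Fin k → R) (y : Fin k → M), m = ∑ j, a j • y j ∧ ∀ j, r * a j = 0 := by
  obtain ⟨k, a, y, h1, h2⟩ := Module.Flat.isTrivialRelation_of_sum_smul_eq_zero
    (f := fun _ : Unit => r) (x := fun _ => m) (by simpa using h)
  exact ⟨k, a (), y, h1 (), fun j => by simpa using h2 j⟩

/-- A flat quotient ring has a pure kernel. -/
theorem exists_mem_mul_eq {R : Type u} [CommRing R] {N : Ideal R} [Module.Flat R (R ⧸ N)] {x : R}
    (hx : x ∈ N) : ∃ n ∈ N, x * n = x := by
  obtain ⟨k, a, y, h1, h2⟩ := exists_of_smul_eq_zero (r := x) (m := Ideal.Quotient.mk N 1) (by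
    rw [Algebra.smul_def, ← Ideal.Quotient.mk_algebraMap, ← map_mul, mul_one]
    exact Ideal.Quotient.eq_zero_iff_mem.2 hx)
  choose c hc using fun j => Ideal.Quotient.mk_surjective (y j)
  refine ⟨1 - ∑ j, a j * c j, Ideal.Quotient.eq_zero_iff_mem.1 ?_, ?_⟩
  · rw [map_sub, map_sum, h1, sub_eq_zero]
    simp [← hc, Algebra.smul_def]
  · rw [mul_sub, mul_one, Finset.mul_sum, Finset.sum_eq_zero (fun j _ => by rw [← mul_assoc, h2, zero_mul]),
      sub_zero]

/-- Every element is von Neumann regular. -/
def AbsFlat (C : Type u) [CommRing C] : Prop := ∀ x : C, ∃ z, x = z * x * x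

theorem AbsFlat.of_surjective {C D : Type*} [CommRing C] [CommRing D] {f : C →+* D}
    (hf : Function.Surjective f) (h : ∀ x : C, ∃ z, x = z * x * x) (y : D) : ∃ z, y = z * y * y := by
  obtain ⟨x, rfl⟩ := hf y
  obtain ⟨z, hz⟩ := h x
  exact ⟨f z, by rw [← map_mul, ← map_mul, ← hz]⟩

/-- Weakly etale algebras over fields are absolutely flat. -/
theorem absFlat (F C : Type u) [Field F] [CommRing C] [Algebra F C] [Algebra.WeaklyEtale F C] :
    AbsFlat C := by
  intro x
  have : Module.Flat C (C ⧸ Ideal.span {x}) :=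
    Groth.Agent.FlatMor.LmulFlat.flat_of_flat_lmul F C (Algebra.WeaklyEtale.flat_lmul' F C) _
  obtain ⟨n, hn, hxn⟩ := exists_mem_mul_eq (N := Ideal.span {x}) (Ideal.mem_span_singleton_self x)
  obtain ⟨z, rfl⟩ := Ideal.mem_span_singleton'.1 hn
  exact ⟨z, by linear_combination -hxn⟩

theorem AbsFlat.eq_zero_of_isNilpotent {C : Type u} [CommRing C] (h : AbsFlat C) {x : C}
    (hx : IsNilpotent x) : x = 0 := by
  obtain ⟨z, hz⟩ := h x
  obtain ⟨n, hn⟩ := hx
  have : ∀ k, x = z ^ k * x ^ k * x := by
    intro k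
    induction k with
    | zero => simp
    | succ k ih =>
      calc x = z ^ k * x ^ k * x := ih
        _ = z ^ k * x ^ k * (z * x * x) := by rw [← hz]
        _ = _ := by ring
  rw [this n, hn, mul_zero, zero_mul]

/-- An absolutely flat ring without nontrivial idempotents is a field. -/
theorem AbsFlat.isField {C : Type u} [CommRing C] [Nontrivial C] (h : AbsFlat C)
    (hi : ∀ e : C, IsIdempotentElem e → e = 0 ∨ e = 1) : IsField C := by
  refine ⟨⟨0, 1, zero_ne_one⟩, mul_comm, fun {x} hx => ?_⟩
  obtain ⟨z, hz⟩ := h x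
  refine ⟨z, ?_⟩
  rcases hi (z * x) (by unfold IsIdempotentElem; linear_combination -z * hz) with h0 | h1
  · exact absurd (hz.trans (by rw [h0, zero_mul])) hx
  · linear_combination h1

/-- Flat modules have flat submodules. -/
def Hereditary (R : Type u) [CommRing R] : Prop :=
  ∀ (M : Type u) [AddCommGroup M] [Module R M] [Module.Flat R M] (N : Submodule R M), Module.Flat R N

/-- Finitely generated ideals are generated by an element with idempotent annihilator. -/
theorem hereditary_of_principal {R : Type u} [CommRing R]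
    (h : ∀ I : Ideal R, I.FG → ∃ g e : R, I = Ideal.span {g} ∧ e * g = g ∧
      ∀ a, g * a = 0 → e * a = 0) : Hereditary R := by
  intro M _ _ _ N
  rw [Module.Flat.iff_rTensor_injective]
  intro I hI
  obtain ⟨g, e, rfl, heg, he⟩ := h I hI
  rw [injective_iff_map_eq_zero]
  intro z hz
  let g' : Ideal.span {g} := ⟨g, Ideal.mem_span_singleton_self g⟩
  obtain ⟨n, rfl⟩ : ∃ n : N, g' ⊗ₜ[R] n = z := by
    clear hz
    induction z using TensorProduct.induction_on with
    | zero => exact ⟨0, TensorProduct.tmul_zero _ _⟩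
    | tmul a n =>
      obtain ⟨c, hc⟩ := Ideal.mem_span_singleton'.1 a.2
      refine ⟨c • n, ?_⟩
      rw [← TensorProduct.smul_tmul]
      exact congrArg (· ⊗ₜ[R] n) (Subtype.ext hc)
    | add x y hx hy =>
      obtain ⟨a, rfl⟩ := hx
      obtain ⟨b, rfl⟩ := hy
      exact ⟨a + b, TensorProduct.tmul_add _ _ _⟩
  have h0 : g • (n : M) = 0 := by
    have := congrArg (fun w => ((TensorProduct.lid R N) w : M)) hz
    simpa [g'] using this
  obtain ⟨k, a, y, h1, h2⟩ := exists_of_smul_eq_zero h0
  have hen : e • n = 0 := Subtype.ext (by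
    rw [Submodule.coe_smul, h1, Finset.smul_sum]
    refine (Finset.sum_eq_zero fun j _ => ?_).trans rfl
    rw [smul_smul, he _ (h2 j), zero_smul])
  have : e • g' = g' := Subtype.ext heg
  rw [← this, TensorProduct.smul_tmul, hen, TensorProduct.tmul_zero]

theorem hereditary_pi_valuationRing {ι : Type u} (V : ι → Type u) [∀ i, CommRing (V i)]
    [∀ i, IsDomain (V i)] [∀ i, ValuationRing (V i)] : Hereditary (∀ i, V i) := by
  classical
  refine hereditary_of_principal fun I hI => ?_
  obtain ⟨g, rfl⟩ : ∃ g, I = Ideal.span {g} := by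
    refine Submodule.fg_induction
      (motive := fun (I : Ideal (∀ i, V i)) _ => ∃ g, I = Ideal.span {g}) (fun x => ⟨x, rfl⟩) ?_ I hI
    rintro I J - - ⟨g, rfl⟩ ⟨g', rfl⟩
    let h : ∀ i, V i := fun i => if g i ∣ g' i then g i else g' i
    let χ : ∀ i, V i := fun i => if g i ∣ g' i then 1 else 0
    refine ⟨h, le_antisymm (sup_le ?_ ?_) ?_⟩
    · rw [Ideal.span_singleton_le_span_singleton]
      refine ⟨fun i => if hd : g i ∣ g' i then 1 else
        ((ValuationRing.dvd_total (g i) (g' i)).resolve_left hd).choose, funext fun i => ?_⟩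
      by_cases hd : g i ∣ g' i
      · simp [h, hd]
      · simp only [h, Pi.mul_apply, if_neg hd, dif_neg hd]
        exact ((ValuationRing.dvd_total (g i) (g' i)).resolve_left hd).choose_spec
    · rw [Ideal.span_singleton_le_span_singleton]
      refine ⟨fun i => if hd : g i ∣ g' i then hd.choose else 1, funext fun i => ?_⟩
      by_cases hd : g i ∣ g' i
      · simp only [h, Pi.mul_apply, if_pos hd, dif_pos hd]
        exact hd.choose_spec
      · simp [h, hd]
    · rw [Ideal.span_le, Set.singleton_subset_iff]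
      have : h = χ * g + (1 - χ) * g' := funext fun i => by by_cases hd : g i ∣ g' i <;> simp [h, χ, hd]
      rw [this]
      exact add_mem (Ideal.mem_sup_left (Ideal.mul_mem_left _ _ (Ideal.mem_span_singleton_self _)))
        (Ideal.mem_sup_right (Ideal.mul_mem_left _ _ (Ideal.mem_span_singleton_self _)))
  refine ⟨g, fun i => if g i = 0 then 0 else 1, rfl, funext fun i => ?_, fun a ha => funext fun i => ?_⟩
  · by_cases h : g i = 0 <;> simp [h]
  · by_cases h : g i = 0
    · simp [h]
    · have := congrFun ha i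
      simp only [Pi.mul_apply, Pi.zero_apply, mul_eq_zero] at this
      simp [h, this.resolve_left h]

/-- Products vanish by splitting, in a weakly etale algebra over a hereditary ring. -/
theorem exists_split {R C : Type u} [CommRing R] [CommRing C] [Algebra R C] [Algebra.WeaklyEtale R C]
    (hR : Hereditary R) {x y : C} (h : y * x = 0) : ∃ u, y * u = 0 ∧ (1 - u) * x = 0 := by
  let I : Ideal C := Ideal.span {x}
  have : Module.Flat R I := hR C (I.restrictScalars R)
  have : Module.Flat C I :=
    Groth.Agent.FlatMor.LmulFlat.flat_of_flat_lmul R C (Algebra.WeaklyEtale.flat_lmul' R C) _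
  obtain ⟨k, a, g, h1, h2⟩ := exists_of_smul_eq_zero (r := y)
    (m := (⟨x, Ideal.mem_span_singleton_self x⟩ : I)) (Subtype.ext h)
  choose c hc using fun j => Ideal.mem_span_singleton'.1 (g j).2
  refine ⟨∑ j, a j * c j, ?_, ?_⟩
  · rw [Finset.mul_sum]
    exact Finset.sum_eq_zero fun j _ => by rw [← mul_assoc, h2, zero_mul]
  · have h3 : x = ∑ j, a j * (g j : C) := by simpa using congrArg Subtype.val h1
    simp only [← hc] at h3
    rw [sub_mul, one_mul, Finset.sum_mul, sub_eq_zero]
    exact h3.trans (Finset.sum_congr rfl fun j _ => (mul_assoc _ _ _).symm)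

/-- Idempotents on the generic fibre of a weakly etale algebra over a normal domain are integral. -/
theorem exists_eq_of_isIdempotentElem (A K B : Type u) [CommRing A] [IsDomain A]
    [IsIntegrallyClosed A] [Field K] [Algebra A K] [IsFractionRing A K] [CommRing B] [Algebra A B]
    [Algebra.WeaklyEtale A B] (e : K ⊗[A] B) (he : IsIdempotentElem e) :
    ∃ b : B, e = 1 ⊗ₜ b := by
  have hrep : ∀ w : K ⊗[A] B, ∃ a : nonZeroDivisors A, ∃ b : B, (a : A) • w = 1 ⊗ₜ b := by
    intro w
    induction w using TensorProduct.induction_on with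
    | zero => exact ⟨1, 0, by simp⟩
    | tmul q b =>
      obtain ⟨⟨c, a⟩, hca⟩ := IsLocalization.surj (nonZeroDivisors A) q
      refine ⟨a, c • b, ?_⟩
      rw [TensorProduct.smul_tmul', ← TensorProduct.smul_tmul]
      congr 1
      rw [Algebra.smul_def, Algebra.smul_def, mul_one, mul_comm]
      exact hca
    | add x y hx hy =>
      obtain ⟨a, b, hb⟩ := hx
      obtain ⟨a', b', hb'⟩ := hy
      refine ⟨a * a', (a' : A) • b + (a : A) • b', ?_⟩
      rw [Submonoid.coe_mul, smul_add, mul_smul, mul_smul, smul_comm (a : A) (a' : A) x, hb, hb',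
        TensorProduct.tmul_add, TensorProduct.tmul_smul, TensorProduct.tmul_smul]
  obtain ⟨a, b, hab⟩ := hrep e
  have inj : Function.Injective (Algebra.TensorProduct.includeRight : B →ₐ[A] K ⊗[A] B) :=
    Algebra.TensorProduct.includeRight_injective (IsFractionRing.injective A K)
  have hb : b * (b - (a : A) • 1) = 0 := by
    apply inj
    simp only [map_mul, map_sub, map_smul, map_one, map_zero, Algebra.TensorProduct.includeRight_apply,
      ← hab]
    rw [mul_sub, smul_mul_smul_comm, he.eq, smul_mul_assoc, mul_smul_comm, mul_one, smul_smul, sub_self]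
  let Rs : Subring K := (algebraMap A K).range
  let ι := {V : ValuationSubring K // Rs ≤ V.toSubring}
  let R := ∀ V : ι, V.1
  let φ : A →+* R := RingHom.pi fun V : ι => (algebraMap A K).codRestrict V.1.toSubring
    fun x => V.2 ⟨x, rfl⟩
  let : Algebra A R := φ.toAlgebra
  have hmem : ∀ x : K, (∀ V : ι, x ∈ V.1.toSubring) → x ∈ Rs := by
    intro x hx
    have : IsIntegrallyClosedIn Rs K := by
      rw [isIntegrallyClosedIn_iff]
      refine ⟨Subtype.val_injective, fun {z} hz => ?_⟩
      let : Algebra A Rs := (algebraMap A K).rangeRestrict.toAlgebra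
      have : IsScalarTower A Rs K := .of_algebraMap_eq fun _ => rfl
      have : Algebra.IsIntegral A Rs := ⟨fun r => by
        obtain ⟨_, c, rfl⟩ := r
        exact isIntegral_algebraMap (A := Rs) (x := c)⟩
      obtain ⟨c, hc⟩ := IsIntegrallyClosed.isIntegral_iff.1 (isIntegral_trans (R := A) z hz)
      exact ⟨⟨_, c, rfl⟩, hc⟩
    rw [Subring.eq_iInf_of_isIntegrallyClosedIn (R := Rs) (K := K), Subring.mem_iInf]
    exact fun V => hx V
  let f : A →ₗ[A] R ⧸ Ideal.span {φ a} :=
    (Ideal.Quotient.mkₐ A (Ideal.span {φ a})).toLinearMap ∘ₗ Algebra.linearMap A R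
  have hex : Function.Exact (LinearMap.mulLeft A (a : A)) f := by
    intro x
    constructor
    · intro hx
      obtain ⟨r, hr⟩ := Ideal.mem_span_singleton'.1 (Ideal.Quotient.eq_zero_iff_mem.1 hx)
      have hak : algebraMap A K a ≠ 0 := IsFractionRing.to_map_ne_zero_of_mem_nonZeroDivisors a.2
      obtain ⟨c, hc⟩ := hmem (algebraMap A K x / algebraMap A K a) fun V => by
        have h2 : (r V : K) * algebraMap A K a = algebraMap A K x :=
          congrArg Subtype.val (congrFun hr V)
        rw [← h2, mul_div_assoc, div_self hak, mul_one]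
        exact (r V).2
      refine ⟨c, IsFractionRing.injective A K ?_⟩
      rw [LinearMap.mulLeft_apply, map_mul, hc, mul_div_cancel₀ _ hak]
    · rintro ⟨c, rfl⟩
      refine Ideal.Quotient.eq_zero_iff_mem.2 (Ideal.mem_span_singleton'.2 ⟨φ c, ?_⟩)
      show φ c * φ a = φ (a * c)
      rw [map_mul, mul_comm]
  have hC : ((1 : R) ⊗ₜ[A] b) ∈ Ideal.span {algebraMap R (R ⊗[A] B) (φ a)} := by
    set x : R ⊗[A] B := 1 ⊗ₜ b with hxdef
    set y : R ⊗[A] B := 1 ⊗ₜ (b - (a : A) • 1) with hydef
    obtain ⟨u, hu1, hu2⟩ := exists_split (R := R) (C := R ⊗[A] B)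
      (hereditary_pi_valuationRing fun V : ι => V.1) (x := x) (y := y)
      (by rw [hxdef, hydef, Algebra.TensorProduct.tmul_mul_tmul, one_mul, mul_comm, hb,
        TensorProduct.tmul_zero])
    have hy : y = x - algebraMap R (R ⊗[A] B) (φ a) := by
      rw [hydef, hxdef, TensorProduct.tmul_sub, TensorProduct.tmul_smul]
      congr 1
      rw [TensorProduct.smul_tmul', Algebra.TensorProduct.algebraMap_apply, Algebra.smul_def, mul_one]
      rfl
    rw [Ideal.mem_span_singleton']
    exact ⟨u, by rw [hy] at hu1; linear_combination -hu2 - hu1⟩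
  have h0 : f.rTensor B ((1 : A) ⊗ₜ b) = 0 := by
    have hker : Ideal.span {algebraMap R (R ⊗[A] B) (φ a)} ≤ RingHom.ker
        (Algebra.TensorProduct.map (Ideal.Quotient.mkₐ A (Ideal.span {φ a})) (AlgHom.id A B)).toRingHom := by
      rw [Ideal.span_le, Set.singleton_subset_iff, SetLike.mem_coe, RingHom.mem_ker]
      show Algebra.TensorProduct.map _ _ (φ a ⊗ₜ 1) = 0
      rw [Algebra.TensorProduct.map_tmul, Ideal.Quotient.mkₐ_eq_mk,
        Ideal.Quotient.eq_zero_iff_mem.2 (Ideal.mem_span_singleton_self _), TensorProduct.zero_tmul]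
    have h1 := hker hC
    rw [RingHom.mem_ker] at h1
    show f 1 ⊗ₜ[A] b = 0
    have hf1 : f 1 = Ideal.Quotient.mk (Ideal.span {φ a}) 1 := by
      show Ideal.Quotient.mk _ (φ 1) = _
      rw [map_one]
    rw [hf1]
    exact h1
  obtain ⟨w, hw⟩ := (Module.Flat.rTensor_exact B hex _).1 h0
  obtain ⟨c, hc⟩ : ∃ c : B, b = (a : A) • c := by
    refine ⟨TensorProduct.lid A B w, ?_⟩
    have h2 : ∀ w, TensorProduct.lid A B ((LinearMap.mulLeft A (a : A)).rTensor B w) =
        (a : A) • TensorProduct.lid A B w := by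
      intro w
      induction w using TensorProduct.induction_on with
      | zero => simp
      | tmul x y => simp [mul_smul]
      | add x y hx hy => rw [map_add, map_add, hx, hy, map_add, smul_add]
    rw [← h2, hw, TensorProduct.lid_tmul, one_smul]
  refine ⟨c, ?_⟩
  have hau : IsUnit (algebraMap A K a) := IsLocalization.map_units K a
  rw [hc, TensorProduct.tmul_smul, ← IsScalarTower.algebraMap_smul K (a : A) e,
    ← IsScalarTower.algebraMap_smul K (a : A) ((1 : K) ⊗ₜ[A] c)] at hab
  exact (hau.smul_left_cancel).1 hab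

theorem isSMulRegular_mul {D D' : Type u} [CommRing D] [CommRing D'] (f : D →+* D') (hf : f.Flat)
    {d : D} (hd : ∀ y, d * y = 0 → y = 0) (z : D') (h : f d * z = 0) : z = 0 := by
  let := f.toAlgebra
  have : Module.Flat D D' := hf
  have hreg : IsSMulRegular D d := fun x y hxy => sub_eq_zero.1 (hd _ (by
    rw [mul_sub, sub_eq_zero]; exact hxy))
  exact (hreg.of_flat (S := D')) (show f d • z = f d • 0 by rw [smul_zero, smul_eq_mul, h])

/-- A field over a separably closed field with absolutely flat self tensor product is trivial. -/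
theorem bijective_of_absFlat (F K : Type u) [Field F] [IsSepClosed F] [Field K] [Algebra F K]
    (h : AbsFlat (K ⊗[F] K)) : Function.Bijective (algebraMap F K) := by
  have halg : Algebra.IsAlgebraic F K := by
    refine ⟨fun x => by_contra fun hx => ?_⟩
    have hinj : Function.Injective (Polynomial.aeval x : Polynomial F →ₐ[F] K) := by
      rw [injective_iff_map_eq_zero]
      intro p hp
      by_contra hp0
      exact hx ⟨p, hp0, hp⟩
    have hflat : (Polynomial.aeval x : Polynomial F →ₐ[F] K).Flat := by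
      let := (Polynomial.aeval x : Polynomial F →ₐ[F] K).toRingHom.toAlgebra
      show Module.Flat (Polynomial F) K
      rw [Module.Flat.flat_iff_torsion_eq_bot_of_isBezout, eq_bot_iff]
      rintro m ⟨⟨r, hr⟩, hm⟩
      change Polynomial.aeval x r * m = 0 at hm
      exact (mul_eq_zero.1 hm).resolve_left fun h0 =>
        nonZeroDivisors.ne_zero hr (hinj (h0.trans (map_zero _).symm))
    let Φ : K ⊗[F] Polynomial F →ₐ[K] K ⊗[F] K :=
      Algebra.TensorProduct.map (AlgHom.id K K) (Polynomial.aeval x)
    have hΦ : Φ.toRingHom.Flat :=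
      RingHom.Flat.tensorProductMap (RingHom.Flat.of_bijective Function.bijective_id) hflat
    let E := polyEquivTensor' F K
    let d : K ⊗[F] K := x ⊗ₜ 1 - 1 ⊗ₜ x
    have hd : Φ (E (Polynomial.C x - Polynomial.X)) = d := by
      have hX : E Polynomial.X = 1 ⊗ₜ Polynomial.X := by
        simp [E, polyEquivTensor', polyEquivTensor_apply, Polynomial.eval₂_X]
      have hC : E (Polynomial.C x) = x ⊗ₜ 1 := by
        simp [E, polyEquivTensor', polyEquivTensor_apply]
      rw [map_sub, map_sub, hX, hC]
      simp [Φ, d]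
    have hnzd : ∀ y, E (Polynomial.C x - Polynomial.X) * y = 0 → y = 0 := by
      intro y hy
      obtain ⟨q, rfl⟩ := E.surjective y
      rw [← map_mul, map_eq_zero_iff _ E.injective, mul_eq_zero] at hy
      rcases hy with hy | hy
      · exact absurd (congrArg (fun p : Polynomial K => p.coeff 1) hy) (by simp)
      · rw [hy, map_zero]
    obtain ⟨z, hz⟩ := h d
    have h1 : z * d = 1 := by
      refine (sub_eq_zero.1 (isSMulRegular_mul Φ.toRingHom hΦ hnzd _ ?_)).symm
      rw [AlgHom.toRingHom_eq_coe, RingHom.coe_coe, hd]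
      linear_combination hz
    have h2 := congrArg (Algebra.TensorProduct.lmul' F (S := K)) h1
    simp [d] at h2
  refine ⟨(algebraMap F K).injective, fun x => ?_⟩
  have : IsPurelyInseparable F K := inferInstance
  let q := ringExpChar F
  obtain ⟨n, r, hr⟩ := IsPurelyInseparable.pow_mem F q x
  have : ExpChar (K ⊗[F] K) q := expChar_of_injective_algebraMap (algebraMap F (K ⊗[F] K)).injective q
  have hd : x ⊗ₜ[F] (1 : K) - 1 ⊗ₜ x = 0 := h.eq_zero_of_isNilpotent ⟨q ^ n, by
    rw [sub_pow_expChar_pow, Algebra.TensorProduct.tmul_pow, Algebra.TensorProduct.tmul_pow, one_pow,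
      ← hr, Algebra.algebraMap_eq_smul_one, TensorProduct.smul_tmul, sub_self]⟩
  rw [sub_eq_zero] at hd
  obtain ⟨φ, hφ⟩ : ∃ φ : K →ₗ[F] F, φ 1 = 1 := by
    obtain ⟨g, hg⟩ := (Algebra.linearMap F K).exists_leftInverse_of_injective
      (LinearMap.ker_eq_bot.2 (algebraMap F K).injective)
    exact ⟨g, by simpa using congr($hg 1)⟩
  have h4 := congrArg (fun w => TensorProduct.lid F K (φ.rTensor K w)) hd
  simp only [LinearMap.rTensor_tmul, TensorProduct.lid_tmul, hφ, one_smul] at h4
  exact ⟨φ x, by rw [Algebra.algebraMap_eq_smul_one]; exact h4⟩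

/-- Residue fields of weakly etale algebras over separably closed fields. -/
theorem bijective_quotient_maximal (F C : Type u) [Field F] [IsSepClosed F] [CommRing C] [Algebra F C]
    [Algebra.WeaklyEtale F C] (m : Ideal C) [m.IsMaximal] :
    Function.Bijective (algebraMap F (C ⧸ m)) := by
  let : Field (C ⧸ m) := Ideal.Quotient.field m
  have : Algebra.WeaklyEtale F (C ⊗[F] C) := Algebra.WeaklyEtale.trans F C (C ⊗[F] C)
  refine bijective_of_absFlat F (C ⧸ m) fun y => AbsFlat.of_surjective
    (f := (Algebra.TensorProduct.map (Ideal.Quotient.mkₐ F m) (Ideal.Quotient.mkₐ F m)).toRingHom)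
    ?_ (absFlat F (C ⊗[F] C)) y
  exact TensorProduct.map_surjective (g := (Ideal.Quotient.mkₐ F m).toLinearMap)
    (g' := (Ideal.Quotient.mkₐ F m).toLinearMap) (Ideal.Quotient.mkₐ_surjective F m)
    (Ideal.Quotient.mkₐ_surjective F m)

end Groth.Agent.WEtale
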